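/-
The ternary code of length twelve: words, weights, orthogonality and the associated Steiner system.
-/
import Cfsg.Prelude.Def_SporadicCombinatorics

set_option autoImplicit false
set_option maxRecDepth 100000

namespace CfsgTernary

open Cfsg

/-- Position index. -/
def idx (p : ArrayPt) : ℕ := 3 * p.1.val + p.2.val

/-- The rows of a reduced generator matrix. -/
def rows : List (List (ZMod 3)) :=
  [[1, 0, 0, 0, 0, 1, 0, 0, 1, 1, 1, 2],
   [0, 1, 0, 0, 0, 1, 0, 2, 2, 2, 0, 2],
   [0, 0, 1, 0, 0, 1, 0, 1, 0, 2, 1, 1],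
   [0, 0, 0, 1, 0, 2, 0, 2, 1, 2, 1, 0],
   [0, 0, 0, 0, 1, 2, 0, 1, 2, 0, 1, 2],
   [0, 0, 0, 0, 0, 0, 1, 1, 1, 2, 2, 2]]

/-- A row as a word. -/
def gen (k : Fin 6) (p : ArrayPt) : ZMod 3 := (rows.getD k []).getD (idx p) 0

/-- The word with given information symbols. -/
def word (a : Fin 6 → ZMod 3) (p : ArrayPt) : ZMod 3 :=
  a 0 * gen 0 p + a 1 * gen 1 p + a 2 * gen 2 p + a 3 * gen 3 p + a 4 * gen 4 p + a 5 * gen 5 p

theorem mem_code_iff (x : ArrayPt → ZMod 3) : x ∈ ternaryGolayCode ↔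
    ∃ s : ZMod 3, (∀ i : Fin 4, ∑ r : ZMod 3, x (i, r) = -s) ∧
      ∀ a b : ZMod 3, ∑ i : Fin 4, x (i, a * ![0, 1, 1, 1] i + b * ![1, 0, 1, 2] i) = s := by
  constructor
  · rintro ⟨s, h1, h2⟩
    exact ⟨s, h1, fun a b => h2 (fun i => a * ![0, 1, 1, 1] i + b * ![1, 0, 1, 2] i)
      (Submodule.mem_span_pair.mpr ⟨a, b, funext fun i => rfl⟩)⟩
  · rintro ⟨s, h1, h2⟩
    refine ⟨s, h1, fun t ht => ?_⟩
    obtain ⟨a, b, rfl⟩ := Submodule.mem_span_pair.mp ht
    exact h2 a b

theorem gen_mem (k : Fin 6) : gen k ∈ ternaryGolayCode := by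
  rw [mem_code_iff]; revert k; decide +kernel

theorem word_eq (a : Fin 6 → ZMod 3) : word a = ∑ k, a k • gen k := by
  ext p; simp [word, Fin.sum_univ_six]

theorem word_mem (a : Fin 6 → ZMod 3) : word a ∈ ternaryGolayCode := by
  rw [word_eq]; exact sum_mem fun k _ => ternaryGolayCode.smul_mem _ (gen_mem k)

/-- The information positions. -/
def info : Fin 6 → ArrayPt := ![(0, 0), (0, 1), (0, 2), (1, 0), (1, 1), (2, 0)]

/-- The word carrying the given values on the other positions and zero on the information positions. -/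
def rest (y : Fin 6 → ZMod 3) (p : ArrayPt) : ZMod 3 :=
  [0, 0, 0, 0, 0, y 0, 0, y 1, y 2, y 3, y 4, y 5].getD (idx p) 0

theorem rest_zero : ∀ y : Fin 6 → ZMod 3, (∃ s : ZMod 3, (∀ i : Fin 4, ∑ r : ZMod 3, rest y (i, r) = -s) ∧
      ∀ a b : ZMod 3, ∑ i : Fin 4, rest y (i, a * ![0, 1, 1, 1] i + b * ![1, 0, 1, 2] i) = s) → y = 0 := by
  decide +kernel

theorem word_info : ∀ a : Fin 6 → ZMod 3, ∀ k, word a (info k) = a k := by decide +kernel

theorem pos_cases : ∀ p : ArrayPt, (∃ k, info k = p) ∨ p ∈ [((1, 2) : ArrayPt), (2, 1), (2, 2), (3, 0), (3, 1), (3, 2)] := by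
  decide +kernel

theorem exists_word {x : ArrayPt → ZMod 3} (hx : x ∈ ternaryGolayCode) : ∃ a, word a = x := by
  refine ⟨fun k => x (info k), ?_⟩
  set a := fun k => x (info k)
  set y : Fin 6 → ZMod 3 := fun j => (x - word a) (![((1, 2) : ArrayPt), (2, 1), (2, 2), (3, 0), (3, 1), (3, 2)] j)
  have h0 : ∀ k, (x - word a) (info k) = 0 := fun k => by simp [word_info, a]
  have hr : rest y = x - word a := by
    funext p
    rcases pos_cases p with ⟨k, rfl⟩ | hp
    · rw [h0 k]; fin_cases k <;> rfl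
    · simp only [List.mem_cons, List.not_mem_nil, or_false] at hp
      rcases hp with rfl | rfl | rfl | rfl | rfl | rfl <;> rfl
  have hy : y = 0 := rest_zero y ((mem_code_iff _).mp (hr ▸ sub_mem hx (word_mem a)))
  have hz : x - word a = 0 := by
    rw [← hr, hy]; funext p; revert p; decide +kernel
  exact (sub_eq_zero.mp hz).symm

theorem word_injective : Function.Injective word := fun a b h => funext fun k => by
  rw [← word_info a k, ← word_info b k, h]

theorem code_eq : (ternaryGolayCode : Set (ArrayPt → ZMod 3)) = Set.range word :=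
  Set.ext fun _ => ⟨fun h => exists_word h, fun ⟨a, h⟩ => h ▸ word_mem a⟩

/-- The weight of a word. -/
def wt (a : Fin 6 → ZMod 3) : ℕ := (Finset.univ.filter fun p => word a p ≠ 0).card

theorem wt_cases : ∀ a : Fin 6 → ZMod 3, a = 0 ∨ wt a = 6 ∨ wt a = 9 ∨ wt a = 12 := by decide +kernel

theorem wt_counts : (Finset.univ.filter fun a => wt a = 6).card = 264 ∧
    (Finset.univ.filter fun a => wt a = 9).card = 440 ∧ (Finset.univ.filter fun a => wt a = 12).card = 24 := by
  decide +kernel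

theorem ncard_weight (n : ℕ) :
    {x : ArrayPt → ZMod 3 | x ∈ ternaryGolayCode ∧ (ternarySupport x).card = n}.ncard =
      (Finset.univ.filter fun a => wt a = n).card := by
  rw [← Set.ncard_coe_finset]
  have : {x : ArrayPt → ZMod 3 | x ∈ ternaryGolayCode ∧ (ternarySupport x).card = n} =
      word '' ↑(Finset.univ.filter fun a => wt a = n) := by
    ext x
    constructor
    · rintro ⟨hx, hn⟩
      obtain ⟨a, rfl⟩ := exists_word hx
      exact ⟨a, by simpa [wt, ternarySupport] using hn, rfl⟩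
    · rintro ⟨a, ha, rfl⟩
      exact ⟨word_mem a, by simpa [wt, ternarySupport] using ha⟩
  rw [this, Set.ncard_image_of_injective _ word_injective]

theorem weights : Nat.card ↥ternaryGolayCode = 729 ∧
    (∀ x ∈ ternaryGolayCode, x ≠ 0 → (ternarySupport x).card = 6 ∨ (ternarySupport x).card = 9 ∨
      (ternarySupport x).card = 12) ∧
    {x : ArrayPt → ZMod 3 | x ∈ ternaryGolayCode ∧ (ternarySupport x).card = 6}.ncard = 264 ∧
    {x : ArrayPt → ZMod 3 | x ∈ ternaryGolayCode ∧ (ternarySupport x).card = 9}.ncard = 440 ∧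
    {x : ArrayPt → ZMod 3 | x ∈ ternaryGolayCode ∧ (ternarySupport x).card = 12}.ncard = 24 := by
  refine ⟨?_, fun x hx hne => ?_, by rw [ncard_weight]; exact wt_counts.1,
    by rw [ncard_weight]; exact wt_counts.2.1, by rw [ncard_weight]; exact wt_counts.2.2⟩
  · show Nat.card ((ternaryGolayCode : Set (ArrayPt → ZMod 3))) = 729
    rw [code_eq, Nat.card_range_of_injective word_injective]
    simp
  · obtain ⟨a, rfl⟩ := exists_word hx
    exact (wt_cases a).resolve_left fun h => hne (by rw [h, word_eq]; simp)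

theorem gen_orth : ∀ k l, ∑ p, gen k p * gen l p = 0 := by decide +kernel

theorem orth {x y : ArrayPt → ZMod 3} (hx : x ∈ ternaryGolayCode) (hy : y ∈ ternaryGolayCode) :
    ∑ p, x p * y p = 0 := by
  obtain ⟨a, rfl⟩ := exists_word hx
  obtain ⟨b, rfl⟩ := exists_word hy
  simp only [word_eq, Finset.sum_apply, Pi.smul_apply, smul_eq_mul, Finset.sum_mul, Finset.mul_sum]
  rw [Finset.sum_comm]
  refine Finset.sum_eq_zero fun k _ => ?_
  rw [Finset.sum_comm]
  refine Finset.sum_eq_zero fun l _ => ?_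
  simp only [mul_mul_mul_comm, ← Finset.mul_sum, gen_orth, mul_zero]

/-- The hexads as twelve-bit masks. -/
def mask (a : Fin 6 → ZMod 3) : ℕ :=
  ((List.finRange 12).map fun i : Fin 12 =>
    if word a ((⟨i.val / 3, by omega⟩ : Fin 4), ((i.val % 3 : ℕ) : ZMod 3)) = 0 then 0 else 2 ^ i.val).sum

end CfsgTernary
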