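/-
The Steiner system of the ternary code and the diagonal automorphisms of the code.
-/
import Cfsg.Agent.Lib.Ternary.Code
import Cfsg.Prelude.Def_Sporadic_a

set_option autoImplicit false
set_option maxRecDepth 100000

namespace CfsgTernary

open Cfsg

/-- The twelve positions in index order. -/
def pts : List ArrayPt :=
  [(0, 0), (0, 1), (0, 2), (1, 0), (1, 1), (1, 2), (2, 0), (2, 1), (2, 2), (3, 0), (3, 1), (3, 2)]

/-- The set with a given mask. -/
def fromM (m : ℕ) : Finset ArrayPt := Finset.univ.filter fun p => m.testBit (idx p)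

/-- The size of a mask. -/
def pc12 (m : ℕ) : ℕ := pts.countP fun p => m.testBit (idx p)

/-- The masks of the supports of weight six. -/
def hexL : List ℕ :=
  (((List.finRange 729).map fun n : Fin 729 => fun k : Fin 6 => (((n.val / 3 ^ k.val) % 3 : ℕ) : ZMod 3)).filter
    fun a => mask a ≠ 0 ∧ pc12 (mask a) = 6).map mask |>.dedup

theorem card_fromM (m : ℕ) : (fromM m).card = pc12 m := by
  have hu : (Finset.univ : Finset ArrayPt) = pts.toFinset := by decide +kernel
  rw [fromM, pc12, List.countP_eq_length_filter, hu, ← List.toFinset_filter, List.toFinset_card_of_nodup]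
  exact List.Nodup.filter _ (by decide +kernel)

theorem fromM_subset {m h : ℕ} (hm : m < 4096) : fromM m ⊆ fromM h ↔ m &&& h = m := by
  constructor
  · intro hs
    refine Nat.eq_of_testBit_eq fun i => ?_
    rw [Nat.testBit_land]
    cases hb : m.testBit i with
    | false => simp
    | true =>
      have hi : i < 12 := by
        by_contra hi
        have := Nat.testBit_lt_two_pow (lt_of_lt_of_le hm (show 4096 ≤ 2 ^ i by
          calc 4096 = 2 ^ 12 := by norm_num
            _ ≤ 2 ^ i := Nat.pow_le_pow_right (by norm_num) (by omega)))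
        rw [hb] at this; exact absurd this (by simp)
      obtain ⟨p, -, hp⟩ : ∃ p ∈ pts, idx p = i :=
        (by decide +kernel : ∀ j < 12, ∃ p ∈ pts, idx p = j) i hi
      have h1 : p ∈ fromM h := hs (by simp [fromM, hp, hb])
      simp only [fromM, Finset.mem_filter] at h1
      rw [← hp, h1.2]; rfl
  · intro he p hp
    simp only [fromM, Finset.mem_filter, Finset.mem_univ, true_and] at hp ⊢
    have := congrArg (fun n => n.testBit (idx p)) he
    simp only [Nat.testBit_land, hp, Bool.true_and] at this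
    exact this

theorem exists_mask (s : Finset ArrayPt) : ∃ m < 4096, fromM m = s := by
  have hinj : Set.InjOn fromM (Finset.range 4096 : Finset ℕ) := by
    intro m hm k hk h
    simp only [Finset.coe_range, Set.mem_Iio] at hm hk
    have h1 := (fromM_subset hm).mp h.le
    have h2 := (fromM_subset hk).mp h.ge
    rw [← h1, Nat.land_comm, h2]
  have : (Finset.range 4096).image fromM = Finset.univ := Finset.eq_univ_of_card _ (by
    rw [Finset.card_image_of_injOn hinj, Finset.card_range, Fintype.card_finset]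
    decide +kernel)
  have hs : s ∈ (Finset.range 4096).image fromM := this ▸ Finset.mem_univ s
  obtain ⟨m, hm, rfl⟩ := Finset.mem_image.mp hs
  exact ⟨m, Finset.mem_range.mp hm, rfl⟩

theorem hexL_checks : hexL.length = 132 ∧ (hexL.all fun h => decide (h < 4096 ∧ pc12 h = 6)) = true ∧
    ((List.range 4096).all fun m => decide (pc12 m ≠ 5 ∨ (hexL.countP fun h => m &&& h == m) = 1)) = true := by
  decide +kernel

theorem mask_spec : ∀ a : Fin 6 → ZMod 3, wt a = 6 → mask a ∈ hexL ∧ ∀ p ∈ pts, (mask a).testBit (idx p) = decide (word a p ≠ 0) := by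
  decide +kernel

theorem hex_spec : (hexL.all fun h => decide (∃ a : Fin 6 → ZMod 3, mask a = h ∧ wt a = 6)) = true := by
  decide +kernel

theorem blocks_eq : {h : Finset ArrayPt | ∃ x ∈ ternaryGolayCode, ternarySupport x = h ∧ h.card = 6} =
    fromM '' {m | m ∈ hexL} := by
  have hpts : ∀ p : ArrayPt, p ∈ pts := by decide +kernel
  have hsup : ∀ a, wt a = 6 → ternarySupport (word a) = fromM (mask a) := fun a ha => by
    ext p
    simp [ternarySupport, fromM, (mask_spec a ha).2 p (hpts p)]
  ext h
  constructor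
  · rintro ⟨x, hx, rfl, hc⟩
    obtain ⟨a, rfl⟩ := exists_word hx
    have ha : wt a = 6 := hc
    exact ⟨mask a, (mask_spec a ha).1, (hsup a ha).symm⟩
  · rintro ⟨m, hm, rfl⟩
    obtain ⟨a, rfl, ha⟩ := of_decide_eq_true (List.all_eq_true.mp hex_spec m hm)
    exact ⟨word a, word_mem a, hsup a ha, by rw [← hsup a ha]; exact ha⟩

theorem steiner : IsSteinerSystem 5 6 {h : Finset ArrayPt | ∃ x ∈ ternaryGolayCode, ternarySupport x = h ∧ h.card = 6} ∧
    {h : Finset ArrayPt | ∃ x ∈ ternaryGolayCode, ternarySupport x = h ∧ h.card = 6}.ncard = 132 := by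
  obtain ⟨hlen, hall, huniq⟩ := hexL_checks
  have hlt : ∀ h ∈ hexL, h < 4096 := fun h hh => (of_decide_eq_true (List.all_eq_true.mp hall h hh)).1
  refine ⟨⟨fun b hb => ?_, fun s hs => ?_⟩, ?_⟩
  · obtain ⟨x, -, -, h⟩ := hb; exact h
  · obtain ⟨m, hm, rfl⟩ := exists_mask s
    rw [card_fromM] at hs
    have h1 := (of_decide_eq_true (List.all_eq_true.mp huniq m (List.mem_range.mpr hm))).resolve_left (by simp [hs])
    rw [List.countP_eq_length_filter] at h1
    obtain ⟨h0, hh0⟩ := List.length_eq_one_iff.mp h1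
    have hmem : ∀ h, (h ∈ hexL ∧ m &&& h = m) ↔ h = h0 := fun h => by
      have : h ∈ hexL.filter (fun h => m &&& h == m) ↔ h ∈ [h0] := by rw [hh0]
      simpa using this
    rw [blocks_eq]
    refine ⟨fromM h0, ⟨⟨h0, ((hmem h0).mpr rfl).1, rfl⟩, (fromM_subset hm).mpr ((hmem h0).mpr rfl).2⟩, ?_⟩
    rintro _ ⟨⟨h, hh, rfl⟩, hsub⟩
    rw [(hmem h).mp ⟨hh, (fromM_subset hm).mp hsub⟩]
  · rw [blocks_eq, Set.InjOn.ncard_image]
    · rw [← List.coe_toFinset, Set.ncard_coe_finset, List.toFinset_card_of_nodup (show hexL.Nodup from List.nodup_dedup _), hlen]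
    · intro m hm k hk h
      have h1 := (fromM_subset (hlt m hm)).mp h.le
      have h2 := (fromM_subset (hlt k hk)).mp h.ge
      rw [← h1, Nat.land_comm, h2]

/-- A diagonal automorphism is constant. -/
theorem diag_const (c : ArrayPt → (ZMod 3)ˣ)
    (h : ∀ x ∈ ternaryGolayCode, monomialMap 1 c x ∈ ternaryGolayCode) : (∀ p, c p = 1) ∨ (∀ p, c p = -1) := by
  have hu : ∀ u : (ZMod 3)ˣ, u = 1 ∨ u = -1 := by decide
  have hsame : ∀ x ∈ ternaryGolayCode, (ternarySupport x).card = 6 →
      ∀ p ∈ ternarySupport x, ∀ q ∈ ternarySupport x, c p = c q := by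
    intro x hx h6 p hp q hq
    by_contra hne
    set z : ArrayPt → ZMod 3 := monomialMap 1 c x - (c q : ZMod 3) • x with hz
    have hzv : ∀ r, z r = ((c r : ZMod 3) - c q) * x r := fun r => by
      simp [hz, monomialMap, sub_mul, show Equiv.symm (1 : Equiv.Perm ArrayPt) = 1 from rfl]
    have hzm : z ∈ ternaryGolayCode := sub_mem (h x hx) (ternaryGolayCode.smul_mem _ hx)
    have hz0 : z ≠ 0 := by
      intro h0
      have h1 := congrFun h0 p
      rw [hzv, Pi.zero_apply] at h1
      simp only [ternarySupport, Finset.mem_filter] at hp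
      exact hne (Units.ext (sub_eq_zero.mp ((mul_eq_zero.mp h1).resolve_right hp.2)))
    have hlt : (ternarySupport z).card < 6 := by
      rw [← h6]
      refine Finset.card_lt_card ((Finset.ssubset_iff_of_subset ?_).mpr ⟨q, hq, ?_⟩)
      · intro r hr
        simp only [ternarySupport, Finset.mem_filter, Finset.mem_univ, true_and, hzv] at hr ⊢
        exact fun h0 => hr (by rw [h0, mul_zero])
      · simp [ternarySupport, hzv]
    rcases weights.2.1 z hzm hz0 with e | e | e <;> omega
  have hall : ∀ p q, c p = c q := by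
    intro p q
    obtain ⟨s, hsub, -, hs⟩ := Finset.exists_subsuperset_card_eq (Finset.subset_univ ({p, q} : Finset ArrayPt))
      (Finset.card_le_two.trans (by norm_num : (2 : ℕ) ≤ 5)) (by decide +kernel)
    obtain ⟨b, ⟨⟨x, hx, rfl, h6⟩, hsb⟩, -⟩ := steiner.1.2 s hs
    exact hsame x hx h6 p (hsb (hsub (by simp))) q (hsb (hsub (by simp)))
  rcases hu (c (0, 0)) with e | e
  · exact Or.inl fun p => (hall p (0, 0)).trans e
  · exact Or.inr fun p => (hall p (0, 0)).trans e

end CfsgTernary
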