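/-
The monomial automorphisms of the ternary code of length twelve.
-/
import Cfsg.Agent.Lib.Ternary.Steiner
import Cfsg.Agent.Lib.SteinerTwelve.Groups

set_option autoImplicit false
set_option maxRecDepth 100000

namespace CfsgTernary

open Cfsg

/-- Certificates: level, target, a permutation with its inverse, and signs. -/
def certs : List (ℕ × ℕ × List ℕ × List ℕ × List ℕ) := [
  (0, 0, [0, 1, 2, 3, 4, 5, 6, 7, 8, 9, 10, 11], [0, 1, 2, 3, 4, 5, 6, 7, 8, 9, 10, 11], [1, 1, 1, 1, 1, 1, 1, 1, 1, 1, 1, 1]),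
  (0, 1, [1, 0, 2, 3, 4, 5, 11, 9, 10, 7, 8, 6], [1, 0, 2, 3, 4, 5, 11, 9, 10, 7, 8, 6], [1, 1, 1, 1, 1, 1, 1, 1, 1, 1, 1, 1]),
  (0, 2, [2, 0, 1, 3, 4, 5, 8, 6, 7, 10, 11, 9], [1, 2, 0, 3, 4, 5, 7, 8, 6, 11, 9, 10], [1, 1, 1, 1, 1, 1, 1, 1, 1, 1, 1, 1]),
  (0, 3, [3, 0, 1, 2, 4, 5, 10, 7, 6, 8, 9, 11], [1, 2, 3, 0, 4, 5, 8, 7, 9, 10, 6, 11], [1, 1, 0, 0, 1, 1, 0, 0, 1, 0, 1, 0]),
  (0, 4, [4, 0, 1, 2, 3, 5, 6, 9, 10, 11, 7, 8], [1, 2, 3, 4, 0, 5, 6, 10, 11, 7, 8, 9], [1, 1, 0, 1, 0, 1, 1, 0, 0, 0, 0, 1]),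
  (0, 5, [5, 0, 1, 2, 3, 4, 9, 6, 8, 7, 11, 10], [1, 2, 3, 4, 5, 0, 7, 9, 8, 6, 11, 10], [1, 1, 0, 1, 1, 0, 0, 1, 0, 1, 0, 0]),
  (0, 6, [6, 0, 1, 2, 3, 9, 5, 4, 7, 10, 8, 11], [1, 2, 3, 4, 7, 6, 0, 8, 10, 5, 9, 11], [1, 0, 1, 1, 0, 1, 0, 0, 0, 1, 1, 0]),
  (0, 7, [7, 0, 1, 2, 3, 11, 10, 8, 9, 4, 5, 6], [1, 2, 3, 4, 9, 10, 11, 0, 7, 8, 6, 5], [1, 0, 0, 0, 0, 1, 1, 1, 1, 1, 0, 0]),
  (0, 8, [8, 0, 1, 2, 3, 10, 7, 11, 4, 6, 9, 5], [1, 2, 3, 4, 8, 11, 9, 6, 0, 10, 5, 7], [1, 1, 1, 0, 1, 1, 0, 0, 1, 1, 0, 1]),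
  (0, 9, [9, 0, 1, 2, 3, 6, 4, 5, 11, 8, 10, 7], [1, 2, 3, 4, 6, 7, 5, 11, 9, 0, 10, 8], [1, 0, 1, 1, 1, 0, 1, 0, 1, 0, 0, 0]),
  (0, 10, [10, 0, 1, 2, 3, 8, 11, 7, 5, 9, 6, 4], [1, 2, 3, 4, 11, 8, 10, 7, 5, 9, 0, 6], [1, 1, 1, 0, 1, 1, 1, 1, 0, 0, 1, 0]),
  (0, 11, [11, 0, 1, 2, 3, 7, 8, 10, 6, 5, 4, 9], [1, 2, 3, 4, 10, 9, 8, 5, 6, 11, 7, 0], [1, 0, 0, 0, 1, 0, 1, 0, 0, 1, 1, 1]),
  (1, 1, [0, 1, 2, 3, 4, 5, 6, 7, 8, 9, 10, 11], [0, 1, 2, 3, 4, 5, 6, 7, 8, 9, 10, 11], [1, 1, 1, 1, 1, 1, 1, 1, 1, 1, 1, 1]),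
  (1, 2, [0, 2, 1, 3, 4, 5, 9, 10, 11, 6, 7, 8], [0, 2, 1, 3, 4, 5, 9, 10, 11, 6, 7, 8], [1, 1, 1, 1, 1, 1, 1, 1, 1, 1, 1, 1]),
  (1, 3, [0, 3, 1, 2, 4, 5, 11, 8, 9, 7, 6, 10], [0, 2, 3, 1, 4, 5, 10, 9, 7, 8, 11, 6], [1, 1, 0, 0, 1, 1, 0, 0, 1, 0, 1, 0]),
  (1, 4, [0, 4, 1, 2, 3, 5, 8, 11, 7, 9, 10, 6], [0, 2, 3, 4, 1, 5, 11, 8, 6, 9, 10, 7], [1, 1, 0, 1, 0, 1, 1, 0, 0, 0, 0, 1]),
  (1, 5, [0, 5, 1, 2, 3, 4, 10, 7, 11, 6, 8, 9], [0, 2, 3, 4, 5, 1, 9, 7, 10, 11, 6, 8], [1, 1, 0, 1, 1, 0, 0, 1, 0, 1, 0, 0]),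
  (1, 6, [0, 6, 1, 2, 3, 9, 11, 10, 8, 4, 7, 5], [0, 2, 3, 4, 9, 11, 1, 10, 8, 5, 7, 6], [1, 0, 1, 1, 0, 1, 0, 0, 0, 1, 1, 0]),
  (1, 7, [0, 7, 1, 2, 3, 11, 6, 4, 5, 8, 9, 10], [0, 2, 3, 4, 7, 8, 6, 1, 9, 10, 11, 5], [1, 0, 0, 0, 0, 1, 1, 1, 1, 1, 0, 0]),
  (1, 8, [0, 8, 1, 2, 3, 10, 5, 6, 9, 11, 4, 7], [0, 2, 3, 4, 10, 6, 7, 11, 1, 8, 5, 9], [1, 1, 1, 0, 1, 1, 0, 0, 1, 1, 0, 1]),
  (1, 9, [0, 9, 1, 2, 3, 6, 7, 8, 10, 5, 11, 4], [0, 2, 3, 4, 11, 9, 5, 6, 7, 1, 8, 10], [1, 0, 1, 1, 1, 0, 1, 0, 1, 0, 0, 0]),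
  (1, 10, [0, 10, 1, 2, 3, 8, 4, 9, 6, 7, 5, 11], [0, 2, 3, 4, 6, 10, 8, 9, 5, 7, 1, 11], [1, 1, 1, 0, 1, 1, 1, 1, 0, 0, 1, 0]),
  (1, 11, [0, 11, 1, 2, 3, 7, 9, 5, 4, 10, 6, 8], [0, 2, 3, 4, 8, 7, 10, 5, 11, 6, 9, 1], [1, 0, 0, 0, 1, 0, 1, 0, 0, 1, 1, 1]),
  (2, 2, [0, 1, 2, 3, 4, 5, 6, 7, 8, 9, 10, 11], [0, 1, 2, 3, 4, 5, 6, 7, 8, 9, 10, 11], [1, 1, 1, 1, 1, 1, 1, 1, 1, 1, 1, 1]),
  (2, 3, [0, 1, 3, 2, 4, 5, 7, 6, 10, 11, 8, 9], [0, 1, 3, 2, 4, 5, 7, 6, 10, 11, 8, 9], [1, 1, 0, 0, 1, 1, 0, 0, 1, 0, 1, 0]),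
  (2, 4, [0, 1, 4, 2, 3, 5, 9, 10, 6, 8, 11, 7], [0, 1, 3, 4, 2, 5, 8, 11, 9, 6, 7, 10], [1, 1, 0, 1, 0, 1, 1, 0, 0, 0, 0, 1]),
  (2, 5, [0, 1, 5, 2, 3, 4, 6, 8, 9, 10, 7, 11], [0, 1, 3, 4, 5, 2, 6, 10, 7, 8, 9, 11], [1, 1, 0, 1, 1, 0, 0, 1, 0, 1, 0, 0]),
  (2, 6, [0, 1, 6, 2, 3, 9, 4, 7, 5, 11, 10, 8], [0, 1, 3, 4, 6, 8, 2, 7, 11, 5, 10, 9], [1, 0, 1, 1, 0, 1, 0, 0, 0, 1, 1, 0]),
  (2, 7, [0, 1, 7, 2, 3, 11, 8, 9, 10, 6, 4, 5], [0, 1, 3, 4, 10, 11, 9, 2, 6, 7, 8, 5], [1, 0, 0, 0, 0, 1, 1, 1, 1, 1, 0, 0]),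
  (2, 8, [0, 1, 8, 2, 3, 10, 11, 4, 7, 5, 6, 9], [0, 1, 3, 4, 7, 9, 10, 8, 2, 11, 5, 6], [1, 1, 1, 0, 1, 1, 0, 0, 1, 1, 0, 1]),
  (2, 9, [0, 1, 9, 2, 3, 6, 5, 11, 4, 7, 8, 10], [0, 1, 3, 4, 8, 6, 5, 9, 10, 2, 11, 7], [1, 0, 1, 1, 1, 0, 1, 0, 1, 0, 0, 0]),
  (2, 10, [0, 1, 10, 2, 3, 8, 7, 5, 11, 4, 9, 6], [0, 1, 3, 4, 9, 7, 11, 6, 5, 10, 2, 8], [1, 1, 1, 0, 1, 1, 1, 1, 0, 0, 1, 0]),
  (2, 11, [0, 1, 11, 2, 3, 7, 10, 6, 8, 9, 5, 4], [0, 1, 3, 4, 11, 10, 7, 5, 8, 9, 6, 2], [1, 0, 0, 0, 1, 0, 1, 0, 0, 1, 1, 1]),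
  (3, 3, [0, 1, 2, 3, 4, 5, 6, 7, 8, 9, 10, 11], [0, 1, 2, 3, 4, 5, 6, 7, 8, 9, 10, 11], [1, 1, 1, 1, 1, 1, 1, 1, 1, 1, 1, 1]),
  (3, 4, [0, 1, 2, 4, 3, 5, 10, 9, 11, 7, 6, 8], [0, 1, 2, 4, 3, 5, 10, 9, 11, 7, 6, 8], [1, 1, 1, 1, 1, 1, 1, 1, 1, 1, 1, 1]),
  (3, 5, [0, 1, 2, 5, 3, 4, 8, 6, 7, 11, 9, 10], [0, 1, 2, 4, 5, 3, 7, 8, 6, 10, 11, 9], [1, 1, 1, 1, 1, 1, 1, 1, 1, 1, 1, 1]),
  (3, 6, [0, 1, 2, 6, 3, 9, 7, 4, 10, 8, 5, 11], [0, 1, 2, 4, 7, 10, 3, 6, 9, 5, 8, 11], [1, 0, 0, 1, 1, 1, 1, 1, 1, 1, 1, 1]),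
  (3, 7, [0, 1, 2, 7, 3, 11, 9, 8, 4, 5, 10, 6], [0, 1, 2, 4, 8, 9, 11, 3, 7, 6, 10, 5], [1, 0, 1, 0, 0, 0, 0, 0, 0, 0, 0, 0]),
  (3, 8, [0, 1, 2, 8, 3, 10, 4, 11, 6, 9, 7, 5], [0, 1, 2, 4, 6, 11, 8, 10, 3, 9, 5, 7], [1, 1, 0, 0, 0, 0, 0, 0, 0, 0, 0, 0]),
  (3, 9, [0, 1, 2, 9, 3, 6, 11, 5, 8, 10, 4, 7], [0, 1, 2, 4, 10, 7, 5, 11, 8, 3, 9, 6], [1, 0, 0, 1, 1, 1, 1, 1, 1, 1, 1, 1]),
  (3, 10, [0, 1, 2, 10, 3, 8, 5, 7, 9, 6, 11, 4], [0, 1, 2, 4, 11, 6, 9, 7, 5, 8, 3, 10], [1, 1, 0, 0, 0, 0, 0, 0, 0, 0, 0, 0]),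
  (3, 11, [0, 1, 2, 11, 3, 7, 6, 10, 5, 4, 8, 9], [0, 1, 2, 4, 9, 8, 6, 5, 10, 11, 7, 3], [1, 0, 1, 0, 0, 0, 0, 0, 0, 0, 0, 0]),
  (4, 4, [0, 1, 2, 3, 4, 5, 6, 7, 8, 9, 10, 11], [0, 1, 2, 3, 4, 5, 6, 7, 8, 9, 10, 11], [1, 1, 1, 1, 1, 1, 1, 1, 1, 1, 1, 1]),
  (4, 5, [0, 1, 2, 3, 5, 4, 9, 11, 10, 6, 8, 7], [0, 1, 2, 3, 5, 4, 9, 11, 10, 6, 8, 7], [1, 1, 1, 1, 1, 1, 1, 1, 1, 1, 1, 1]),
  (4, 6, [0, 1, 2, 3, 6, 9, 5, 8, 11, 4, 7, 10], [0, 1, 2, 3, 9, 6, 4, 10, 7, 5, 11, 8], [1, 0, 0, 1, 1, 1, 1, 1, 1, 1, 1, 1]),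
  (4, 7, [0, 1, 2, 3, 7, 11, 10, 5, 6, 8, 9, 4], [0, 1, 2, 3, 11, 7, 8, 4, 9, 10, 6, 5], [1, 0, 1, 0, 0, 0, 0, 0, 0, 0, 0, 0]),
  (4, 8, [0, 1, 2, 3, 8, 10, 7, 9, 5, 11, 4, 6], [0, 1, 2, 3, 10, 8, 11, 6, 4, 7, 5, 9], [1, 1, 0, 0, 0, 0, 0, 0, 0, 0, 0, 0]),
  (4, 9, [0, 1, 2, 3, 9, 6, 4, 10, 7, 5, 11, 8], [0, 1, 2, 3, 6, 9, 5, 8, 11, 4, 7, 10], [1, 0, 0, 1, 1, 1, 1, 1, 1, 1, 1, 1]),
  (4, 10, [0, 1, 2, 3, 10, 8, 11, 6, 4, 7, 5, 9], [0, 1, 2, 3, 8, 10, 7, 9, 5, 11, 4, 6], [1, 1, 0, 0, 0, 0, 0, 0, 0, 0, 0, 0]),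
  (4, 11, [0, 1, 2, 3, 11, 7, 8, 4, 9, 10, 6, 5], [0, 1, 2, 3, 7, 11, 10, 5, 6, 8, 9, 4], [1, 0, 1, 0, 0, 0, 0, 0, 0, 0, 0, 0])]

/-- A position map given by a list of indices. -/
def posMap (l : List ℕ) (p : ArrayPt) : ArrayPt := pts.getD (l.getD (idx p) 0) p

/-- The signs given by a list. -/
def sgn (l : List ℕ) (p : ArrayPt) : (ZMod 3)ˣ := if l.getD (idx p) 0 = 1 then 1 else -1

theorem certs_inverse : ∀ C ∈ certs, ∀ p : ArrayPt,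
    posMap C.2.2.2.1 (posMap C.2.2.1 p) = p ∧ posMap C.2.2.1 (posMap C.2.2.2.1 p) = p := by decide +kernel

theorem certs_code : ∀ C ∈ certs, ∀ k : Fin 6,
    ∃ s : ZMod 3, (∀ i : Fin 4, ∑ r : ZMod 3,
        (sgn C.2.2.2.2 (i, r) : ZMod 3) * gen k (posMap C.2.2.2.1 (i, r)) = -s) ∧
      ∀ a b : ZMod 3, ∑ i : Fin 4,
        (sgn C.2.2.2.2 (i, a * ![0, 1, 1, 1] i + b * ![1, 0, 1, 2] i) : ZMod 3) *
          gen k (posMap C.2.2.2.1 (i, a * ![0, 1, 1, 1] i + b * ![1, 0, 1, 2] i)) = s := by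
  decide +kernel

set_option synthInstance.maxSize 2000 in
theorem certs_levels : ∀ k < 5, ∀ j < 12, k ≤ j → ∃ C ∈ certs, posMap C.2.2.1 (pts.getD k (0, 0)) = pts.getD j (0, 0) ∧
    ∀ i < k, posMap C.2.2.1 (pts.getD i (0, 0)) = pts.getD i (0, 0) := by decide +kernel

theorem pts_surj : ∀ p : ArrayPt, ∃ i < 12, pts.getD i (0, 0) = p := by decide +kernel

theorem pts_inj : ∀ i < 12, ∀ j < 12, pts.getD i (0, 0) = pts.getD j (0, 0) → i = j := by decide +kernel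

/-- The permutations underlying monomial automorphisms of the code. -/
def Lifts (σ : Equiv.Perm ArrayPt) : Prop :=
  ∃ c : ArrayPt → (ZMod 3)ˣ, ∀ x ∈ ternaryGolayCode, monomialMap σ c x ∈ ternaryGolayCode

theorem Lifts.mul {σ τ : Equiv.Perm ArrayPt} (hσ : Lifts σ) (hτ : Lifts τ) : Lifts (σ * τ) := by
  obtain ⟨c, hc⟩ := hσ
  obtain ⟨d, hd⟩ := hτ
  refine ⟨fun p => c p * d (σ.symm p), fun x hx => ?_⟩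
  convert hc _ (hd x hx) using 1
  funext p
  simp only [monomialMap, Units.val_mul, mul_assoc]
  rfl

theorem Lifts.one : Lifts 1 := ⟨1, fun x hx => by
  convert hx using 1
  funext p
  simp [monomialMap, show Equiv.symm (1 : Equiv.Perm ArrayPt) = 1 from rfl]⟩

theorem Lifts.inv {σ : Equiv.Perm ArrayPt} (hσ : Lifts σ) : Lifts σ⁻¹ := by
  have hpow : ∀ n : ℕ, Lifts (σ ^ n) := fun n => by
    induction n with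
    | zero => exact Lifts.one
    | succ n ih => rw [pow_succ]; exact ih.mul hσ
  have h := pow_orderOf_eq_one σ
  obtain ⟨m, hm⟩ := Nat.exists_eq_succ_of_ne_zero (orderOf_pos σ).ne'
  rw [hm, pow_succ] at h
  rw [← eq_inv_of_mul_eq_one_left h]
  exact hpow m

theorem Lifts.mem_aut {σ : Equiv.Perm ArrayPt} (hσ : Lifts σ) :
    σ ∈ setSystemAut {h : Finset ArrayPt | ∃ x ∈ ternaryGolayCode, ternarySupport x = h ∧ h.card = 6} := by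
  have key : ∀ τ : Equiv.Perm ArrayPt, Lifts τ → ∀ x ∈ ternaryGolayCode,
      ∃ y ∈ ternaryGolayCode, ternarySupport y = (ternarySupport x).image τ := by
    rintro τ ⟨c, hc⟩ x hx
    refine ⟨monomialMap τ c x, hc x hx, ?_⟩
    ext p
    simp [ternarySupport, monomialMap, Equiv.apply_eq_iff_eq_symm_apply]
  rw [CfsgTwelve.mem_aut]
  ext h
  constructor
  · rintro ⟨b, ⟨x, hx, rfl, hc⟩, rfl⟩
    obtain ⟨y, hy, he⟩ := key σ hσ x hx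
    exact ⟨y, hy, he, by rw [Finset.card_image_of_injective _ σ.injective, hc]⟩
  · rintro ⟨x, hx, rfl, hc⟩
    obtain ⟨y, hy, he⟩ := key σ⁻¹ hσ.inv x hx
    refine ⟨_, ⟨y, hy, he, by rw [Finset.card_image_of_injective _ σ⁻¹.injective, hc]⟩, ?_⟩
    simp [Finset.image_image]

theorem cert_lifts {k j : ℕ} (hk : k < 5) (hj : j < 12) (hkj : k ≤ j) : ∃ g : Equiv.Perm ArrayPt, Lifts g ∧
    g (pts.getD k (0, 0)) = pts.getD j (0, 0) ∧ ∀ i < k, g (pts.getD i (0, 0)) = pts.getD i (0, 0) := by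
  obtain ⟨C, hC, h1, h2⟩ := certs_levels k hk j hj hkj
  refine ⟨⟨posMap C.2.2.1, posMap C.2.2.2.1, fun p => (certs_inverse C hC p).1, fun p => (certs_inverse C hC p).2⟩,
    ⟨sgn C.2.2.2.2, fun x hx => ?_⟩, h1, h2⟩
  obtain ⟨a, rfl⟩ := exists_word hx
  set T : ArrayPt → ArrayPt := posMap C.2.2.2.1
  have hlin : (fun p => (sgn C.2.2.2.2 p : ZMod 3) * word a (T p)) =
      ∑ l, a l • fun p => (sgn C.2.2.2.2 p : ZMod 3) * gen l (T p) := by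
    funext p
    simp [word, Fin.sum_univ_six]
    ring
  show (fun p => (sgn C.2.2.2.2 p : ZMod 3) * word a (T p)) ∈ ternaryGolayCode
  rw [hlin]
  exact sum_mem fun l _ => ternaryGolayCode.smul_mem _ ((mem_code_iff _).mpr (certs_code C hC l))

theorem lifts_iff {σ : Equiv.Perm ArrayPt} : Lifts σ ↔
    σ ∈ setSystemAut {h : Finset ArrayPt | ∃ x ∈ ternaryGolayCode, ternarySupport x = h ∧ h.card = 6} := by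
  refine ⟨Lifts.mem_aut, fun hσ => ?_⟩
  have step : ∀ k, k ≤ 5 → ∃ h, Lifts h ∧ ∀ i < k, h (pts.getD i (0, 0)) = σ (pts.getD i (0, 0)) := by
    intro k
    induction k with
    | zero => exact fun _ => ⟨1, Lifts.one, fun i hi => absurd hi (by omega)⟩
    | succ k ih =>
      intro hk
      obtain ⟨h, hl, hh⟩ := ih (by omega)
      obtain ⟨j, hj, hje⟩ := pts_surj (h.symm (σ (pts.getD k (0, 0))))
      have hkj : k ≤ j := by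
        by_contra hlt
        have h1 : σ (pts.getD k (0, 0)) = σ (pts.getD j (0, 0)) :=
          ((congrArg h hje).trans (h.apply_symm_apply _)).symm.trans (hh j (by omega))
        exact absurd (pts_inj k (by omega) j hj (σ.injective h1)) (by omega)
      obtain ⟨g, hg, hg1, hg2⟩ := cert_lifts (show k < 5 by omega) hj hkj
      refine ⟨h * g, hl.mul hg, fun i hi => ?_⟩
      rw [Equiv.Perm.mul_apply]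
      rcases Nat.lt_succ_iff_lt_or_eq.mp hi with hi | rfl
      · rw [hg2 i hi, hh i hi]
      · rw [hg1, hje, Equiv.apply_symm_apply]
  obtain ⟨h, hl, hh⟩ := step 5 le_rfl
  obtain ⟨-, -, hsharp⟩ := CfsgTwelve.aut12 (by decide +kernel : Fintype.card ArrayPt = 12) steiner.1
  let x : Fin 5 ↪ ArrayPt := ⟨fun i => pts.getD i (0, 0), fun i j e => Fin.ext (pts_inj i (by omega) j (by omega) e)⟩
  have hm := mul_mem (inv_mem hl.mem_aut) hσ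
  have h1 : (⟨h⁻¹ * σ, hm⟩ : ↥(setSystemAut _)) ∈ MulAction.stabilizer _ x :=
    MulAction.mem_stabilizer_iff.mpr (Function.Embedding.ext fun i => by
      show h.symm (σ (x i)) = x i
      exact (Equiv.symm_apply_eq h).mpr (hh i i.2).symm)
  rw [hsharp x, Subgroup.mem_bot] at h1
  have h2 : h = σ := inv_mul_eq_one.mp (congrArg Subtype.val h1)
  exact h2 ▸ hl

theorem monomial_auts :
    Nat.card {f : Equiv.Perm ArrayPt × (ArrayPt → (ZMod 3)ˣ) //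
      (∀ x ∈ ternaryGolayCode, monomialMap f.1 f.2 x ∈ ternaryGolayCode)} = 190080 ∧
    {σ : Equiv.Perm ArrayPt | ∃ c : ArrayPt → (ZMod 3)ˣ,
      (∀ x ∈ ternaryGolayCode, monomialMap σ c x ∈ ternaryGolayCode)} =
      (setSystemAut {h : Finset ArrayPt | ∃ x ∈ ternaryGolayCode, ternarySupport x = h ∧ h.card = 6} :
        Set (Equiv.Perm ArrayPt)) := by
  classical
  set Bl := {h : Finset ArrayPt | ∃ x ∈ ternaryGolayCode, ternarySupport x = h ∧ h.card = 6}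
  refine ⟨?_, Set.ext fun σ => lifts_iff⟩
  choose c hc using fun σ : ↥(setSystemAut Bl) => lifts_iff.mpr σ.2
  have hneg : ∀ (u : (ZMod 3)ˣ) (σ : Equiv.Perm ArrayPt) (d : ArrayPt → (ZMod 3)ˣ) x,
      monomialMap σ (fun p => u * d p) x = (u : ZMod 3) • monomialMap σ d x := fun u σ d x => by
    funext p
    simp [monomialMap, mul_assoc]
  let f : ↥(setSystemAut Bl) × (ZMod 3)ˣ → {f : Equiv.Perm ArrayPt × (ArrayPt → (ZMod 3)ˣ) //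
      (∀ x ∈ ternaryGolayCode, monomialMap f.1 f.2 x ∈ ternaryGolayCode)} := fun q =>
    ⟨((q.1 : Equiv.Perm ArrayPt), fun p => q.2 * c q.1 p), fun x hx => by
      rw [hneg]
      exact ternaryGolayCode.smul_mem _ (hc q.1 x hx)⟩
  have hf : Function.Bijective f := by
    constructor
    · rintro ⟨σ, u⟩ ⟨τ, v⟩ he
      have h1 : σ = τ := Subtype.ext (congrArg (fun z => z.1.1) he)
      subst h1
      have h2 := congrFun (congrArg (fun z => z.1.2) he) (0, 0)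
      exact Prod.ext rfl (mul_right_cancel h2)
    · rintro ⟨⟨σ, d⟩, hd⟩
      let σ' : ↥(setSystemAut Bl) := ⟨σ, lifts_iff.mp ⟨d, hd⟩⟩
      have hdiag : ∀ y ∈ ternaryGolayCode, monomialMap 1 (fun p => d p * (c σ' p)⁻¹) y ∈ ternaryGolayCode := by
        intro y hy
        obtain ⟨-, hsurj⟩ : Function.Injective (fun x : ternaryGolayCode => (⟨monomialMap σ (c σ') x.1, hc σ' _ x.2⟩ :
            ternaryGolayCode)) ∧ Function.Surjective (fun x : ternaryGolayCode => (⟨monomialMap σ (c σ') x.1, hc σ' _ x.2⟩ :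
            ternaryGolayCode)) := by
          rw [← Finite.injective_iff_surjective, and_self]
          intro x x' h
          refine Subtype.ext (funext fun p => ?_)
          have := congrFun (congrArg Subtype.val h) (σ p)
          simpa [monomialMap] using this
        obtain ⟨x, hx⟩ := hsurj ⟨y, hy⟩
        convert hd x.1 x.2 using 1
        rw [show y = monomialMap σ (c σ') x.1 from (congrArg Subtype.val hx).symm]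
        funext p
        show ((d p * (c σ' p)⁻¹ : (ZMod 3)ˣ) : ZMod 3) * ((c σ' p : ZMod 3) * x.1 (σ.symm p)) =
          (d p : ZMod 3) * x.1 (σ.symm p)
        rw [← mul_assoc, ← Units.val_mul, inv_mul_cancel_right]
      obtain ⟨u, hu⟩ : ∃ u : (ZMod 3)ˣ, ∀ p, d p * (c σ' p)⁻¹ = u := by
        rcases diag_const _ hdiag with h | h
        · exact ⟨1, h⟩
        · exact ⟨-1, h⟩
      exact ⟨(σ', u), Subtype.ext (Prod.ext rfl (funext fun p => by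
        show u * c σ' p = d p
        rw [← hu p, inv_mul_cancel_right]))⟩
  rw [← Nat.card_eq_of_bijective f hf, Nat.card_prod,
    (CfsgTwelve.aut12 (by decide +kernel : Fintype.card ArrayPt = 12) steiner.1).1.2,
    Nat.card_eq_fintype_card, ZMod.card_units_eq_totient]
  rfl

end CfsgTernary
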